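import Groth.Agent.VBPn.K439.HomLoc
import Groth.Agent.CurvesC.ReducedConnField
import Mathlib.AlgebraicGeometry.AlgClosed.Basic
import Mathlib.CategoryTheory.Idempotents.Basic

/-!
# A module with free internal endomorphisms is `L^r`
-/

set_option autoImplicit false

universe u

open CategoryTheory CategoryTheory.Limits AlgebraicGeometry Opposite TopologicalSpace

namespace K439.EndMat

open Groth.Agent Groth.Agent.CohqB.HomSheaf
open Groth.Agent.Sga67.Sec Groth.Agent.Sga67.LocBasis
open Groth.Agent.Krr.H463.HomBasis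

section Alg

/-- Base change of a bijective combination map. -/
theorem comb_map {B K : Type*} [CommRing B] [CommRing K] (ρ : B →+* K) {ι J : Type*} [Fintype ι]
    [Fintype J] (b : ι → J → B)
    (h : Function.Bijective (fun a : ι → B => ∑ i, a i • b i)) :
    Function.Bijective (fun a : ι → K => ∑ i, a i • (fun j => ρ (b i j))) := by
  classical
  let M : Matrix J ι B := Matrix.of fun j i => b i j
  have hM : ∀ a : ι → B, Matrix.toLin' M a = ∑ i, a i • b i := by
    intro a
    funext j
    rw [Matrix.toLin'_apply, Matrix.mulVec, dotProduct, Finset.sum_apply]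
    exact Finset.sum_congr rfl fun i _ => by
      rw [Pi.smul_apply, smul_eq_mul, mul_comm]
      rfl
  have h' : Function.Bijective (Matrix.toLin' M) := by
    have : (Matrix.toLin' M : (ι → B) → (J → B)) = fun a => ∑ i, a i • b i := funext hM
    rw [this]
    exact h
  let e := LinearEquiv.ofBijective (Matrix.toLin' M) h'
  let N : Matrix ι J B := LinearMap.toMatrix' (e.symm : (J → B) →ₗ[B] (ι → B))
  have h1 : M * N = 1 := by
    have h2 : M = LinearMap.toMatrix' (e : (ι → B) →ₗ[B] (J → B)) := by
      exact (LinearMap.toMatrix'_toLin' M).symm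
    rw [h2, ← LinearMap.toMatrix'_comp]
    simp
  have h3 : N * M = 1 := by
    have h2 : M = LinearMap.toMatrix' (e : (ι → B) →ₗ[B] (J → B)) := by
      exact (LinearMap.toMatrix'_toLin' M).symm
    rw [h2, ← LinearMap.toMatrix'_comp]
    simp
  have h4 : M.map ρ * N.map ρ = 1 := by
    rw [← Matrix.map_mul, h1]
    simp
  have h5 : N.map ρ * M.map ρ = 1 := by
    rw [← Matrix.map_mul, h3]
    simp
  have h6 : (fun a : ι → K => ∑ i, a i • (fun j => ρ (b i j))) = (M.map ρ).mulVec := by
    funext a j
    rw [Matrix.mulVec, dotProduct, Finset.sum_apply]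
    exact Finset.sum_congr rfl fun i _ => by
      rw [Pi.smul_apply, smul_eq_mul, mul_comm]
      rfl
  rw [h6]
  refine ⟨fun a b hab => ?_, fun y => ⟨(N.map ρ).mulVec y, ?_⟩⟩
  · have := congrArg (N.map ρ).mulVec hab
    simpa [Matrix.mulVec_mulVec, h5] using this
  · rw [Matrix.mulVec_mulVec, h4, Matrix.one_mulVec]

end Alg

section Mat

variable {X : Scheme.{u}} {E : X.Modules} {r : ℕ} {U : X.Opens} {e : Fin r → Sec E U}
  (he : IsLocBasis e) {K : Type u} [Field K] (ρ : Γ(X, U) →+* K)

/-- The matrix of an endomorphism in a local basis, evaluated along a ring map (rows are images). -/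
noncomputable def T (φ : E ⟶ E) : Matrix (Fin r) (Fin r) K :=
  fun j i => ρ ((he.basis le_rfl).repr (appS φ U ((he.basis le_rfl) j)) i)

theorem T_eq (φ : E ⟶ E) :
    T he ρ φ = ((LinearMap.toMatrix (he.basis le_rfl) (he.basis le_rfl) (appS φ U)).transpose).map ρ := by
  ext j i
  rw [Matrix.map_apply, Matrix.transpose_apply, LinearMap.toMatrix_apply]
  rfl

theorem T_comp (φ ψ : E ⟶ E) : T he ρ (φ ≫ ψ) = T he ρ φ * T he ρ ψ := by
  have h : appS (φ ≫ ψ) U = (appS ψ U) ∘ₗ (appS φ U) := LinearMap.ext fun s => appS_comp φ ψ U s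
  rw [T_eq, T_eq, T_eq, h, LinearMap.toMatrix_comp _ (he.basis le_rfl), Matrix.transpose_mul,
    Matrix.map_mul]

theorem T_add (φ ψ : E ⟶ E) : T he ρ (φ + ψ) = T he ρ φ + T he ρ ψ := by
  ext j i
  simp only [T, Matrix.add_apply, appS_add, map_add, Finsupp.add_apply]

theorem T_id : T he ρ (𝟙 E) = 1 := by
  have h : appS (𝟙 E) U = LinearMap.id := LinearMap.ext fun s => appS_id E U s
  rw [T_eq, h, LinearMap.toMatrix_id, Matrix.transpose_one]
  simp

/-- The additive map. -/
noncomputable def Thom : (E ⟶ E) →+ Matrix (Fin r) (Fin r) K where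
  toFun := T he ρ
  map_zero' := by
    ext j i
    simp only [T, appS_zero, map_zero, Finsupp.zero_apply, Matrix.zero_apply]
  map_add' := T_add he ρ

theorem T_bijective {ι : Type*} [Fintype ι] {h : ι → Sec (homSheaf E E) ⊤} (hh : IsLocBasis h)
    (hρ : Function.Bijective (ρ.comp (resO X (le_top : U ≤ ⊤)))) :
    Function.Bijective (T he ρ) := by
  classical
  let b := he.basis (le_refl U)
  -- the coordinates of a section of the internal Hom over `U`
  let Φ : Sec (homSheaf E E) U → (Fin r × Fin r → Γ(X, U)) :=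
    fun s p => b.repr (ev E e (le_refl U) s p.1) p.2
  have hΦadd : ∀ s t, Φ (s + t) = Φ s + Φ t := by
    intro s t
    funext p
    simp only [Φ, map_add, Pi.add_apply, Finsupp.add_apply]
  have hΦsmul : ∀ (a : Γ(X, U)) s, Φ (a • s) = a • Φ s := by
    intro a s
    funext p
    simp only [Φ, map_smul, Pi.smul_apply, Finsupp.smul_apply]
  let ΦL : Sec (homSheaf E E) U →ₗ[Γ(X, U)] (Fin r × Fin r → Γ(X, U)) :=
    { toFun := Φ, map_add' := hΦadd, map_smul' := hΦsmul }
  have hΦ : Function.Bijective Φ := by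
    constructor
    · intro s t hst
      apply (ev_bijective (N := E) he le_rfl).1
      funext j
      apply b.repr.injective
      ext i
      exact congrFun hst (j, i)
    · intro y
      obtain ⟨s, hs⟩ := (ev_bijective (N := E) he le_rfl).2
        (fun j => b.repr.symm (Finsupp.equivFunOnFinite.symm fun i => y (j, i)))
      refine ⟨s, ?_⟩
      funext p
      simp only [Φ, hs, LinearEquiv.apply_symm_apply]
      rfl
  have h1 : Function.Bijective (fun a : ι → Γ(X, U) => ∑ i, a i • Φ (res _ (le_top : U ≤ ⊤) (h i))) := by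
    have h2 : (fun a : ι → Γ(X, U) => ∑ i, a i • Φ (res _ (le_top : U ≤ ⊤) (h i))) =
        Φ ∘ (comb h (le_top : U ≤ ⊤)) := by
      funext a
      change _ = ΦL (comb h le_top a)
      rw [comb_apply, map_sum]
      exact Finset.sum_congr rfl fun i _ => (map_smul ΦL _ _).symm
    rw [h2]
    exact hΦ.comp (hh U le_top)
  have h3 := comb_map ρ _ h1
  -- the formula for `T`
  have h4 : ∀ a : ι → Γ(X, (⊤ : X.Opens)), T he ρ ((topEquiv E E) (comb h (le_refl (⊤ : X.Opens)) a)) =
      fun j i => (∑ l, ρ (resO X (le_top : U ≤ ⊤) (a l)) • fun p : Fin r × Fin r =>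
        ρ (Φ (res _ (le_top : U ≤ ⊤) (h l)) p)) (j, i) := by
    intro a
    funext j i
    have h5 : ∀ s : Sec (homSheaf E E) ⊤, T he ρ ((topEquiv E E) s) j i =
        ρ (Φ (res _ (le_top : U ≤ ⊤) s) (j, i)) := by
      intro s
      change ρ (b.repr (appS (topEquiv E E s) U (b j)) i) = ρ (b.repr (ev E e (le_refl U) (res _ le_top s) j) i)
      have h6 : appS (topEquiv E E s) U (b j) = ev E e (le_refl U) (res _ le_top s) j := by
        rw [ev_apply, cS_res, IsLocBasis.basis_apply]
        rfl
      rw [h6]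
    rw [h5, res_comb, Finset.sum_apply]
    have h7 : Φ (comb h ((le_top : U ≤ ⊤).trans (le_refl ⊤)) fun l => resO X (le_top : U ≤ ⊤) (a l)) =
        ∑ l, resO X (le_top : U ≤ ⊤) (a l) • Φ (res _ (le_top : U ≤ ⊤) (h l)) := by
      change ΦL _ = _
      rw [comb_apply, map_sum]
      exact Finset.sum_congr rfl fun i _ => map_smul ΦL _ _
    rw [h7, Finset.sum_apply, map_sum]
    refine Finset.sum_congr rfl fun l _ => ?_
    rw [Pi.smul_apply, smul_eq_mul, map_mul]
    rfl
  have h8 : Function.Bijective (fun a : ι → Γ(X, ⊤) =>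
      T he ρ ((topEquiv E E) (comb h (le_refl ⊤) a))) := by
    have h9 : (fun a : ι → Γ(X, ⊤) => T he ρ ((topEquiv E E) (comb h (le_refl ⊤) a))) =
        (Equiv.curry (Fin r) (Fin r) K) ∘ (fun a : ι → K => ∑ l, a l • fun p : Fin r × Fin r =>
          ρ (Φ (res _ (le_top : U ≤ ⊤) (h l)) p)) ∘
          (fun a : ι → Γ(X, ⊤) => fun l => (ρ.comp (resO X (le_top : U ≤ ⊤))) (a l)) := by
      funext a
      rw [h4]
      rfl
    rw [h9]
    refine (Equiv.bijective _).comp (h3.comp ?_)
    refine ⟨fun a b hab => funext fun l => hρ.1 (congrFun hab l), fun y => ?_⟩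
    choose a ha using fun l => hρ.2 (y l)
    exact ⟨a, funext ha⟩
  have h10 : Function.Bijective (fun a : ι → Γ(X, ⊤) => (topEquiv E E) (comb h (le_refl ⊤) a)) :=
    (topEquiv E E).bijective.comp (hh ⊤ le_rfl)
  exact (Function.Bijective.of_comp_iff (T he ρ) h10).1 h8

end Mat

section Units

variable {C : Type*} [Category C] [Abelian C] {E : C} {r : ℕ}

/-- Matrix units split an object. -/
theorem exists_split (hr : 0 < r) (u : Fin r → Fin r → (E ⟶ E))
    (hmul : ∀ i j k, u i j ≫ u j k = u i k) (hmul0 : ∀ i j k l, j ≠ k → u i j ≫ u k l = 0)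
    (hsum : ∑ i, u i i = 𝟙 E) [HasFiniteCoproducts C] :
    ∃ L : C, Nonempty (E ≅ ∐ fun _ : Fin r => L) := by
  let z : Fin r := ⟨0, hr⟩
  obtain ⟨L, a, p, h1, h2⟩ := IsIdempotentComplete.idempotents_split E (u z z) (hmul z z z)
  refine ⟨L, ⟨⟨∑ i, (u i z ≫ p) ≫ Limits.Sigma.ι (fun _ : Fin r => L) i,
    Limits.Sigma.desc fun i => a ≫ u z i, ?_, ?_⟩⟩⟩
  · rw [Preadditive.sum_comp, ← hsum]
    refine Finset.sum_congr rfl fun i _ => ?_
    rw [Category.assoc, Limits.Sigma.ι_desc, Category.assoc, ← Category.assoc p a, h2, ← Category.assoc,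
      hmul, hmul]
  · apply Limits.Sigma.hom_ext
    intro i
    rw [← Category.assoc, Limits.Sigma.ι_desc, Category.comp_id, Preadditive.comp_sum,
      Finset.sum_eq_single i]
    · have h3 : (a ≫ u z i) ≫ u i z ≫ p = 𝟙 L := by
        rw [Category.assoc, ← Category.assoc (u z i), hmul, ← h2, Category.assoc, h1,
          Category.comp_id, h1]
      rw [← Category.assoc, h3, Category.id_comp]
    · intro j _ hj
      have h3 : (a ≫ u z i) ≫ u j z ≫ p = 0 := by
        rw [Category.assoc, ← Category.assoc (u z i), hmul0 z i j z (Ne.symm hj), zero_comp, Limits.comp_zero]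
      rw [← Category.assoc, h3, zero_comp]
    · simp

end Units

section Main

variable {X : Scheme.{u}} {E : X.Modules} {r : ℕ}

/-- If the internal endomorphisms of `E` are free and the global functions are the functions at a point, then
`E ≅ L^r`. -/
theorem exists_iso_sum (hr : 0 < r) (hE : FlatMod.IsFinLocFreeOfRank r E) (x : X)
    (hx : Function.Bijective (X.presheaf.germ ⊤ x trivial ≫ X.residue x).hom)
    (H : Nonempty (homSheaf E E ≅ FlatMod.freeMod X (r * r))) :
    ∃ L : X.Modules, Nonempty (E ≅ ∐ fun _ : Fin r => L) := by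
  classical
  obtain ⟨U, hxU, hU⟩ := hE x
  obtain ⟨e, he⟩ := nonempty_restrict_iso_iff.mp hU
  obtain ⟨i⟩ := H
  have hh := (free_isLocBasis X (r * r)).of_iso i.symm
  let ρ : Γ(X, U) →+* X.residueField x := (X.presheaf.germ U x hxU ≫ X.residue x).hom
  have hρ : Function.Bijective (ρ.comp (resO X (le_top : U ≤ ⊤))) := by
    have h1 : (ρ.comp (resO X (le_top : U ≤ ⊤))) = (X.presheaf.germ ⊤ x trivial ≫ X.residue x).hom := by
      have h2 : X.presheaf.germ ⊤ x trivial = X.presheaf.map (homOfLE (le_top : U ≤ ⊤)).op ≫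
          X.presheaf.germ U x hxU := (X.presheaf.germ_res _ _ _).symm
      rw [h2, Category.assoc]
      rfl
    rw [h1]
    exact hx
  have hT := T_bijective he ρ hh hρ
  choose u hu using fun i j : Fin r => hT.2 (Matrix.single i j (1 : X.residueField x))
  refine exists_split hr u ?_ ?_ ?_
  · intro i j k
    apply hT.1
    rw [T_comp, hu, hu, hu, Matrix.single_mul_single_same, one_mul]
  · intro i j k l hjk
    apply hT.1
    rw [T_comp, hu, hu, Matrix.single_mul_single_of_ne _ _ _ _ hjk]
    exact (map_zero (Thom he ρ)).symm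
  · apply hT.1
    rw [T_id]
    refine (map_sum (Thom he ρ) _ _).trans ?_
    change ∑ i, T he ρ (u i i) = 1
    simp only [hu]
    exact Matrix.sum_single_one
  
/-- If the internal endomorphisms of `E` are free and the global functions are the functions at a point of the
integral scheme `X`, then `E ≅ L^r` with `L` of rank one. -/
theorem exists_iso_sum_rank_one [IsIntegral X] (hr : 0 < r) (hE : FlatMod.IsFinLocFreeOfRank r E) (x : X)
    (hx : Function.Bijective (X.presheaf.germ ⊤ x trivial ≫ X.residue x).hom)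
    (H : Nonempty (homSheaf E E ≅ FlatMod.freeMod X (r * r))) :
    ∃ L : X.Modules, FlatMod.IsFinLocFreeOfRank 1 L ∧ Nonempty (E ≅ ∐ fun _ : Fin r => L) := by
  obtain ⟨L, ⟨i⟩⟩ := exists_iso_sum hr hE x hx H
  refine ⟨L, HomLoc.rank_one_of_sum r hr ?_, ⟨i⟩⟩
  intro y
  obtain ⟨U, hy, ⟨a⟩⟩ := hE y
  exact ⟨U, hy, ⟨(Scheme.Modules.restrictFunctor U.ι).mapIso i.symm ≪≫ a⟩⟩

/-- Global functions of a proper integral scheme over an algebraically closed field. -/
theorem bijective_residue {K : Type u} [Field K] [IsAlgClosed K] (f : X ⟶ Spec (CommRingCat.of K))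
    [IsIntegral X] [IsProper f] (x : X) (hx : IsClosed ({x} : Set X)) :
    Function.Bijective (X.presheaf.germ ⊤ x trivial ≫ X.residue x).hom := by
  have hfield := Groth.Agent.CurvesC.ReducedConnField.isField_of_universallyClosed f
  have h1 : (residueFieldIsoBase f x hx).inv = ((Scheme.ΓSpecIso (CommRingCat.of K)).inv ≫ f.appTop) ≫
      (X.presheaf.germ ⊤ x trivial ≫ X.residue x) := by
    apply Spec.map_injective
    rw [SpecMap_residueFieldIsoBase_inv]
    have h : f = X.toSpecΓ ≫ Spec.map ((Scheme.ΓSpecIso (CommRingCat.of K)).inv ≫ f.appTop) := by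
      rw [Spec.map_comp, ← Scheme.toSpecΓ_naturality_assoc]
      simp
    conv_lhs => rw [h]
    rw [Scheme.fromSpecResidueField, Category.assoc, Scheme.fromSpecStalk_toSpecΓ_assoc,
      ← Spec.map_comp, ← Spec.map_comp]
    simp only [Category.assoc]
  constructor
  · let _ := hfield.toField
    exact RingHom.injective (X.presheaf.germ ⊤ x trivial ≫ X.residue x).hom
  · intro y
    refine ⟨((Scheme.ΓSpecIso (CommRingCat.of K)).inv ≫ f.appTop).hom
      ((residueFieldIsoBase f x hx).hom y), ?_⟩
    have h2 := congrArg (fun g => g.hom ((residueFieldIsoBase f x hx).hom y)) h1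
    refine h2.symm.trans ?_
    exact (residueFieldIsoBase f x hx).commRingCatIsoToRingEquiv.symm_apply_apply y

end Main

end K439.EndMat
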