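import Groth.Agent.Htor.H255.Theta
import Groth.Agent.Krr.H487.ExtPull
import Groth.Agent.Krr.H463.HomTensor
import Groth.Agent.Dcoh.Spread

/-!
# `Hom(E, N)` for finite locally free modules: local bases, pull-back, sums of one invertible module
-/

set_option autoImplicit false

universe u

open CategoryTheory CategoryTheory.Limits AlgebraicGeometry Opposite TopologicalSpace

namespace K439.HomLoc

open Groth.Agent Groth.Agent.CohqB.HomSheaf
open Groth.Agent.Sga67.Sec Groth.Agent.Sga67.LocBasis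
open Groth.Agent.Krr.H463.HomBasis Groth.Agent.Krr.H487.LocBasisPull
open Groth.Agent.Htor.H255.Theta

section Basis

variable {X : Scheme.{u}} {E N : X.Modules}

/-- The local basis `e_i ↦ d_j` of `Hom(E, N)`. -/
theorem isLocBasis_hsec2 {U : X.Opens} {κ κ' : Type*} [Fintype κ] [DecidableEq κ] [Fintype κ']
    {e : κ → Sec E U} (he : IsLocBasis e) {d : κ' → Sec N U} (hd : IsLocBasis d) :
    IsLocBasis (fun p : κ × κ' => hsec (N := N) he (d p.2) p.1) := by
  intro V hV
  have h1 : ∀ a : κ × κ' → Γ(X, V),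
      ev N e hV (comb (fun p : κ × κ' => hsec (N := N) he (d p.2) p.1) hV a) =
      fun j => comb d hV (fun j' => a (j, j')) := by
    intro a
    rw [comb_apply, map_sum]
    funext j
    rw [Finset.sum_apply, comb_apply, Fintype.sum_prod_type, Finset.sum_eq_single j]
    · refine Finset.sum_congr rfl fun j' _ => ?_
      rw [map_smul, ev_res_hsec]
      simp
    · intro i _ hi
      refine Finset.sum_eq_zero fun j' _ => ?_
      rw [map_smul, ev_res_hsec]
      simp [Ne.symm hi]
    · simp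
  have h3 : Function.Bijective ((ev N e hV) ∘
      (comb (fun p : κ × κ' => hsec (N := N) he (d p.2) p.1) hV)) := by
    have : (ev N e hV) ∘ (comb (fun p : κ × κ' => hsec (N := N) he (d p.2) p.1) hV) =
        fun (a : κ × κ' → Γ(X, V)) (j : κ) => comb d hV (fun j' => a (j, j')) := funext h1
    rw [this]
    refine ⟨fun a b hab => funext fun p => ?_, fun y => ?_⟩
    · exact congrFun ((hd V hV).1 (congrFun hab p.1)) p.2
    · choose a ha using fun j => (hd V hV).2 (y j)
      exact ⟨fun p => a p.1 p.2, funext ha⟩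
  exact (Function.Bijective.of_comp_iff' (ev_bijective (N := N) he hV) _).1 h3

/-- `Hom(E, N)` is finite locally free of rank `m n`. -/
theorem isFinLocFreeOfRank_homSheaf {m n : ℕ} (hE : FlatMod.IsFinLocFreeOfRank m E)
    (hN : FlatMod.IsFinLocFreeOfRank n N) : FlatMod.IsFinLocFreeOfRank (m * n) (homSheaf E N) := by
  intro x
  obtain ⟨U₁, hx₁, hU₁⟩ := hE x
  obtain ⟨U₂, hx₂, hU₂⟩ := hN x
  obtain ⟨e, he⟩ := nonempty_restrict_iso_iff.mp hU₁
  obtain ⟨d, hd⟩ := nonempty_restrict_iso_iff.mp hU₂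
  refine ⟨U₁ ⊓ U₂, ⟨hx₁, hx₂⟩, nonempty_restrict_iso_iff.mpr ?_⟩
  have h := isLocBasis_hsec2 (he.restrict (inf_le_left : U₁ ⊓ U₂ ≤ U₁))
    (hd.restrict (inf_le_right : U₁ ⊓ U₂ ≤ U₂))
  exact ⟨_, h.reindex finProdFinEquiv.symm⟩

end Basis

section Pull

variable {X Y : Scheme.{u}} (g : X ⟶ Y)

/-- `theta` on local bases. -/
theorem theta_hsec {F N : Y.Modules} {U : Y.Opens} {κ : Type*} [Fintype κ] [DecidableEq κ]
    {e : κ → Sec F U} (he : IsLocBasis e) (t : Sec N U) (i : κ) :
    appS (theta g F N) (g ⁻¹ᵁ U) (pbS g (homSheaf F N) (hsec he t i)) =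
      hsec (isLocBasis_pbS g he) (pbS g N t) i := by
  apply (ev_bijective (N := (Scheme.Modules.pullback g).obj N) (isLocBasis_pbS g he) le_rfl).1
  rw [ev_hsec]
  funext j
  rw [ev_apply]
  have h1 : res ((Scheme.Modules.pullback g).obj F) (le_refl (g ⁻¹ᵁ U)) (pbS g F (e j)) =
      pbS g F (e j) := Sga67.Sec.res_self _ _ _
  rw [h1]
  have h2 := comp_theta_pb g (le_refl U) (show Γ(homSheaf F N, U) from hsec he t i) (e j)
  refine (show _ = _ from h2).trans ?_
  have h3 : comp (show Γ(homSheaf F N, U) from hsec he t i) U le_rfl (e j) =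
      (Pi.single i t : κ → Sec N U) j := by
    have h4 := congrFun (ev_hsec he t i) j
    rw [ev_apply, Sga67.Sec.res_self] at h4
    exact h4
  rw [h3]
  by_cases h : j = i
  · subst h
    rw [Pi.single_eq_same, Pi.single_eq_same]
    rfl
  · rw [Pi.single_eq_of_ne h, Pi.single_eq_of_ne h]
    exact map_zero (pbS g N)

/-- The pull-back of the sheaf Hom of finite locally free modules. -/
theorem nonempty_pull {F N : Y.Modules} (hF : FlatMod.IsFinLocFree F) (hN : FlatMod.IsFinLocFree N) :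
    Nonempty ((Scheme.Modules.pullback g).obj (homSheaf F N) ≅
      homSheaf ((Scheme.Modules.pullback g).obj F) ((Scheme.Modules.pullback g).obj N)) := by
  have : IsIso (theta g F N) := isIso_of_bijective _ (by
    intro x W hxW
    obtain ⟨U₁, n, hx₁, e₁, he₁⟩ := (isFinLocFree_iff _).mp hF (g x)
    obtain ⟨U₂, m, hx₂, d₂, hd₂⟩ := (isFinLocFree_iff _).mp hN (g x)
    have he := he₁.restrict (inf_le_left : U₁ ⊓ U₂ ≤ U₁)
    have hd := hd₂.restrict (inf_le_right : U₁ ⊓ U₂ ≤ U₂)
    have h1 := isLocBasis_pbS g (isLocBasis_hsec2 (N := N) he hd)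
    have h2 := isLocBasis_hsec2 (N := (Scheme.Modules.pullback g).obj N) (isLocBasis_pbS g he)
      (isLocBasis_pbS g hd)
    refine ⟨W ⊓ g ⁻¹ᵁ (U₁ ⊓ U₂), inf_le_left, ⟨hxW, hx₁, hx₂⟩, ?_⟩
    exact Krr.H487.ExtPull.bijective_of_locBasis (theta g F N) h1 h2
      (fun p => theta_hsec g he _ p.1) inf_le_right)
  exact ⟨asIso (theta g F N)⟩

end Pull

section Sum

variable {X : Scheme.{u}} {L : X.Modules} (r : ℕ)

/-- The local basis `ι_i(d_a)` of `L^r` for a local basis `d` of `L`. -/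
theorem isLocBasis_sum {U : X.Opens} {κ : Type*} [Fintype κ] {d : κ → Sec L U} (hd : IsLocBasis d) :
    IsLocBasis (fun q : Fin r × κ => appS (Limits.Sigma.ι (fun _ : Fin r => L) q.1) U (d q.2)) := by
  classical
  intro V hV
  let p : ∀ i : Fin r, (∐ fun _ : Fin r => L) ⟶ L :=
    fun i => Limits.Sigma.desc fun j => if j = i then 𝟙 L else 0
  have hp : ∀ i j, Limits.Sigma.ι (fun _ : Fin r => L) j ≫ p i = if j = i then 𝟙 L else 0 :=
    fun i j => Limits.Sigma.ι_desc _ _
  have hs : ∑ i, p i ≫ Limits.Sigma.ι (fun _ : Fin r => L) i = 𝟙 _ := by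
    apply Limits.Sigma.hom_ext
    intro j
    rw [Preadditive.comp_sum, Category.comp_id, Finset.sum_eq_single j]
    · rw [← Category.assoc, hp, if_pos rfl, Category.id_comp]
    · intro i _ hi
      rw [← Category.assoc, hp, if_neg (Ne.symm hi), zero_comp]
    · simp
  have h1 : ∀ a : Fin r × κ → Γ(X, V),
      comb (fun q : Fin r × κ => appS (Limits.Sigma.ι (fun _ : Fin r => L) q.1) U (d q.2)) hV a =
      ∑ i, appS (Limits.Sigma.ι (fun _ : Fin r => L) i) V (comb d hV (fun j => a (i, j))) := by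
    intro a
    rw [comb_apply, Fintype.sum_prod_type]
    refine Finset.sum_congr rfl fun i _ => ?_
    rw [comb_apply, map_sum]
    refine Finset.sum_congr rfl fun j _ => ?_
    rw [map_smul, appS_res]
  have h3 : ∀ (a : Fin r × κ → Γ(X, V)) (i : Fin r), appS (p i) V
      (comb (fun q : Fin r × κ => appS (Limits.Sigma.ι (fun _ : Fin r => L) q.1) U (d q.2)) hV a) =
      comb d hV (fun j => a (i, j)) := by
    intro a i
    rw [h1, map_sum, Finset.sum_eq_single i]
    · rw [← appS_comp, hp, if_pos rfl, appS_id]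
    · intro j _ hj
      rw [← appS_comp, hp, if_neg hj, appS_zero]
    · simp
  constructor
  · intro a b hab
    funext q
    have h4 : comb d hV (fun j => a (q.1, j)) = comb d hV (fun j => b (q.1, j)) := by
      rw [← h3 a q.1, ← h3 b q.1]
      exact congrArg _ hab
    exact congrFun ((hd V hV).1 h4) q.2
  · intro s
    choose a ha using fun i => (hd V hV).2 (appS (p i) V s)
    refine ⟨fun q => a q.1 q.2, ?_⟩
    rw [h1]
    have h4 : s = appS (∑ i, p i ≫ Limits.Sigma.ι (fun _ : Fin r => L) i) V s := by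
      rw [hs, appS_id]
    rw [h4, appS_sum]
    refine Finset.sum_congr rfl fun i _ => ?_
    rw [appS_comp]
    exact congrArg _ (ha i)

/-- The sections `ι_i(t)` of `L^r` for a local generator `t` of `L`. -/
theorem isLocBasis_sum_one {U : X.Opens} {t : Sec L U} (ht : IsLocBasis (fun _ : Fin 1 => t)) :
    IsLocBasis (fun i : Fin r => appS (Limits.Sigma.ι (fun _ : Fin r => L) i) U t) :=
  (isLocBasis_sum r ht).reindex (Equiv.prodUnique (Fin r) (Fin 1)).symm

/-- If `L^r` (`r > 0`) is finite locally free of rank `r` on an integral scheme, then `L` has rank one. -/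
theorem rank_one_of_sum [IsIntegral X] (hr : 0 < r)
    (h : FlatMod.IsFinLocFreeOfRank r (∐ fun _ : Fin r => L)) : FlatMod.IsFinLocFreeOfRank 1 L := by
  classical
  have hL : FlatMod.IsFinLocFree L := by
    refine Groth.Agent.Dcoh.Spread.isFinLocFree_of_retract (F := ∐ fun _ : Fin r => L)
      (Limits.Sigma.ι (fun _ : Fin r => L) ⟨0, hr⟩) (Limits.Sigma.desc fun j => 𝟙 L)
      (Limits.Sigma.ι_desc _ _) ?_
    intro x
    obtain ⟨U, hx, e⟩ := h x
    exact ⟨U, r, hx, e⟩
  intro x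
  obtain ⟨U₁, n, hx₁, d₁, hd₁⟩ := (isFinLocFree_iff _).mp hL x
  obtain ⟨U₂, hx₂, hU₂⟩ := h x
  obtain ⟨e, he⟩ := nonempty_restrict_iso_iff.mp hU₂
  have hd := hd₁.restrict (inf_le_left : U₁ ⊓ U₂ ≤ U₁)
  have he' := he.restrict (inf_le_right : U₁ ⊓ U₂ ≤ U₂)
  have h1 := isLocBasis_sum r hd
  haveI : Nonempty ((U₁ ⊓ U₂ : X.Opens) : Scheme.{u}) := ⟨⟨x, hx₁, hx₂⟩⟩
  haveI : Nonempty (U₁ ⊓ U₂ : X.Opens) := ⟨⟨x, hx₁, hx₂⟩⟩
  haveI : Nontrivial Γ(X, U₁ ⊓ U₂) := inferInstance
  have h2 := Fintype.card_congr ((h1.basis le_rfl).indexEquiv (he'.basis le_rfl))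
  rw [Fintype.card_prod, Fintype.card_fin, Fintype.card_fin] at h2
  have h3 : n = 1 := Nat.eq_of_mul_eq_mul_left hr (h2.trans (mul_one r).symm)
  subst h3
  exact ⟨U₁ ⊓ U₂, ⟨hx₁, hx₂⟩, nonempty_restrict_iso_iff.mpr ⟨_, hd⟩⟩

/-- The internal endomorphisms of `L^r` are free. -/
theorem nonempty_homSheaf_sum (hL : FlatMod.IsFinLocFreeOfRank 1 L) :
    Nonempty (homSheaf (∐ fun _ : Fin r => L) (∐ fun _ : Fin r => L) ≅ FlatMod.freeMod X (r * r)) := by
  classical
  let p : ∀ i : Fin r, (∐ fun _ : Fin r => L) ⟶ L :=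
    fun i => Limits.Sigma.desc fun j => if j = i then 𝟙 L else 0
  have hp : ∀ i j, Limits.Sigma.ι (fun _ : Fin r => L) j ≫ p i = if j = i then 𝟙 L else 0 :=
    fun i j => Limits.Sigma.ι_desc _ _
  let s : Fin r × Fin r → Sec (homSheaf (∐ fun _ : Fin r => L) (∐ fun _ : Fin r => L)) ⊤ :=
    fun q => ofHom (p q.1 ≫ Limits.Sigma.ι (fun _ : Fin r => L) q.2) ⊤
  have hs : IsLocBasis s := by
    refine isLocBasis_of_locally _ ?_
    intro x W _ hxW
    obtain ⟨U, hx, hU⟩ := hL x
    obtain ⟨d, hd⟩ := nonempty_restrict_iso_iff.mp hU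
    have hd' : IsLocBasis (fun _ : Fin 1 => d 0) := by
      convert hd using 2 with i
      rw [Subsingleton.elim i 0]
    have he := isLocBasis_sum_one r hd'
    have h := isLocBasis_hsec2 he he
    have h5 : (fun q : Fin r × Fin r => res _ (le_top : U ≤ ⊤) (s q)) =
        fun q : Fin r × Fin r => hsec (N := ∐ fun _ : Fin r => L) he
          (appS (Sigma.ι (fun _ : Fin r => L) q.2) U (d 0)) q.1 := by
      funext q
      apply (ev_bijective (N := ∐ fun _ : Fin r => L) he le_rfl).1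
      rw [ev_hsec]
      funext j
      rw [ev_apply, Sga67.Sec.res_self]
      have h6 : cS (res _ (le_top : U ≤ ⊤) (s q)) le_rfl
          (appS (Sigma.ι (fun _ : Fin r => L) j) U (d 0)) =
          appS (p q.1 ≫ Limits.Sigma.ι (fun _ : Fin r => L) q.2) U
            (appS (Sigma.ι (fun _ : Fin r => L) j) U (d 0)) := rfl
      rw [h6, ← appS_comp, ← Category.assoc, hp]
      by_cases hj : j = q.1
      · subst hj
        rw [if_pos rfl, Category.id_comp, Pi.single_eq_same]
      · rw [if_neg hj, zero_comp, appS_zero, Pi.single_eq_of_ne hj]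
    refine ⟨W ⊓ U, le_top, inf_le_left, ⟨hxW, hx⟩, ?_⟩
    have h7 := h (W ⊓ U) inf_le_right
    rw [← h5] at h7
    have h8 : (comb s (le_top : W ⊓ U ≤ ⊤) : _ → _) =
        comb (fun q : Fin r × Fin r => res _ (le_top : U ≤ ⊤) (s q)) inf_le_right := by
      funext a
      rw [comb_apply, comb_apply]
      exact Finset.sum_congr rfl fun i _ => by rw [Sga67.Sec.res_res]
    rw [h8]
    exact h7
  exact nonempty_iso_free (hs.reindex finProdFinEquiv.symm)

end Sum

end K439.HomLoc
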